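import Cfsg.Agent.Mrg.Omega.NO3b.BasePt.Def
import Cfsg.Agent.Mrg.Omega.NO3b.Exit.BlkBP
import Cfsg.Agent.Mrg.Omega.NO3b.Chain.Group
import Cfsg.Agent.Mrg.Omega.NO3b.BasePt.BlkOne

-- merged: Cfsg.Agent.Mrg.Omega.NO3b.BasePt.Trans
section

/-!
# NotFFG (NO-3L), the base point: from `Blk0` in `U` to a panel `PB` on `V` (helper957)

`α : P →* Γ₁`, `β : P →* Γ₂`, `Γ₁` acts on `U`, `Γ₂` faithfully on `W`, `i : W → U` injective and equivariant with
image `V` (`structure Tr`).  `tr α β X = β (α⁻¹ X)`.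

* `Tr.pb` : `Blk0 Y Q BB V F L C h M KV S` with `M = α P` gives
  `PB W (β P) (i⁻¹ F) (tr Y) (tr KV)`, if `V` has no quadratic offender;
* `Tr.dec` : `W = [W, tr Y] + C_W(tr Y)`.
-/

set_option autoImplicit false
set_option linter.unusedSectionVars false

namespace Cfsg.Agent.Omega.NO3b.BasePt

open Subgroup
open Cfsg.Agent.Omega.NO3b.Exit Cfsg.Agent.Omega.NO3b.Exit.Ten Cfsg.Agent.Omega.NO3b.Exit.Descent
open Cfsg.Agent.Omega.NO3b.Exit.BlkZ
open Cfsg.Agent.Omega.NO3b.Exit.TBlk (V1 V1_le br_Y_V1 br_mem_V1 V1_fix)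
open Cfsg.Agent.Omega.FF.Basic (fx)
open scoped Pointwise

universe u

/-! ### The subgroup `A₂` -/

section sub

variable {Γ W : Type u} [Group Γ] [AddCommGroup W] [DistribMulAction Γ W]

/-- the action on an invariant subgroup -/
@[instance_reducible] def subAct (Y : Subgroup Γ) (A : AddSubgroup W) (h : ∀ y ∈ Y, ∀ a ∈ A, y • a ∈ A) : DistribMulAction Y A where
  smul y a := ⟨(y : Γ) • (a : W), h y y.2 a a.2⟩
  one_smul a := Subtype.ext (one_smul Γ (a : W))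
  mul_smul x y a := Subtype.ext (mul_smul (x : Γ) (y : Γ) (a : W))
  smul_zero y := Subtype.ext (smul_zero (y : Γ))
  smul_add y a b := Subtype.ext (smul_add (y : Γ) (a : W) (b : W))

end sub

section one

variable {Y : Type u} {A U : Type u} [Group Y] [AddCommGroup A] [DistribMulAction Y A] [AddCommGroup U]
  [DistribMulAction Y U]

/-- `A = [A, Y]` for a nontrivial irreducible module -/
theorem ind_comm [hI : IsIrr Y A] (hnt : ∃ (k : Y) (b : A), k • b ≠ b) {p : A → Prop} (h0 : p 0)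
    (hadd : ∀ a b, p a → p b → p (a + b)) (hneg : ∀ a, p a → p (-a)) (hc : ∀ (k : Y) (b : A), p (k • b - b)) (a : A) :
    p a := by
  let N : AddSubgroup A := AddSubgroup.closure {x | ∃ (k : Y) (b : A), x = k • b - b}
  have hN : N = ⊤ := by
    rcases hI.irr N (fun k n hn => by
      have e : k • n = (k • n - n) + n := by abel
      rw [e]
      exact N.add_mem (AddSubgroup.subset_closure ⟨k, n, rfl⟩) hn) with h | h
    · exfalso
      obtain ⟨k, b, hne⟩ := hnt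
      have h1 : k • b - b ∈ N := AddSubgroup.subset_closure ⟨k, b, rfl⟩
      rw [h, AddSubgroup.mem_bot, sub_eq_zero] at h1
      exact hne h1
    · exact h
  have h1 : a ∈ N := by rw [hN]; trivial
  induction h1 using AddSubgroup.closure_induction with
  | mem x hx =>
    obtain ⟨k, b, rfl⟩ := hx
    exact hc k b
  | zero => exact h0
  | add x y _ _ hx hy => exact hadd x y hx hy
  | neg x _ hx => exact hneg x hx

end one

/-! ### Dimensions in `Dat` -/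

section dims

variable {H U : Type u} [Group H] [AddCommGroup U] [DistribMulAction H U] [Finite H] [Finite U]
variable {Y Q BB : Subgroup H} {V F L C : AddSubgroup U} {h : H} (D : Dat Y Q BB V F L C h)
include D

theorem two_le_dimA [IsIrr Y (AM D)] : 2 ≤ Module.finrank (KK Y (AM D)) (AM D) := by
  obtain ⟨φ, hφ, hker⟩ := D.mdl.exists_dual
  obtain ⟨s, hs, hs0⟩ := D.mdl.ne
  have hfin : Module.Finite (KK Y (AM D)) (AM D) := Module.Finite.of_finite
  have h1 := LinearMap.finrank_range_add_finrank_ker φ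
  have h2 : 0 < Module.finrank (KK Y (AM D)) (LinearMap.ker φ) := by
    rw [Module.finrank_pos_iff_exists_ne_zero]
    exact ⟨⟨s, (hker s).2 hs⟩, fun h0 => hs0 (congrArg Subtype.val h0)⟩
  have h3 : 0 < Module.finrank (KK Y (AM D)) (LinearMap.range φ) := by
    rw [Module.finrank_pos_iff_exists_ne_zero]
    have h4 : ∃ a, φ a ≠ 0 := by
      by_contra hcon
      push Not at hcon
      exact hφ (LinearMap.ext hcon)
    obtain ⟨a, ha⟩ := h4
    exact ⟨⟨φ a, a, rfl⟩, fun h0 => ha (congrArg Subtype.val h0)⟩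
  omega

theorem card_AZM_ge [IsIrr Y (AM D)] : Nat.card (KK Y (AM D)) ≤ Nat.card D.AZM := by
  obtain ⟨s, hs, hs0⟩ := D.mdl.ne
  refine Nat.card_le_card_of_injective (fun κ => (⟨κ • s, D.mdl.smul_mem κ hs⟩ : D.AZM)) fun κ κ' e => ?_
  have h1 : κ • s = κ' • s := congrArg Subtype.val e
  have h2 : (κ - κ') • s = 0 := by rw [sub_smul, h1, sub_self]
  rcases smul_eq_zero.1 h2 with h3 | h3
  · exact sub_eq_zero.1 h3
  · exact absurd h3 hs0

/-- `|V| ≤ |F| |E|` -/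
theorem card_V_le [IsIrr Y (AM D)] : Nat.card V ≤ Nat.card F * Nat.card (HomY Y (AM D) U) := by
  obtain ⟨a, ha⟩ := D.mdl.nt
  rw [← Nat.card_prod]
  have hex : ∀ v : V, ∃ u, (v : U) - D.bt a u ∈ F := fun v => D.mdl.span a ha v v.2
  choose g hg using hex
  refine Nat.card_le_card_of_injective
    (fun v : V => ((⟨(v : U) - D.bt a (g v), hg v⟩ : F), D.mdl.psi (g v))) fun v v' e => ?_
  have h1 := congrArg (fun x : F × HomY Y (AM D) U => ((x.1 : F) : U)) e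
  have h2 := congrArg (fun x : F × HomY Y (AM D) U => (x.2 : AM D →+ U) a) e
  change D.bt a (g v) = D.bt a (g v') at h2
  change (v : U) - D.bt a (g v) = (v' : U) - D.bt a (g v') at h1
  rw [h2] at h1
  exact Subtype.ext (sub_left_inj.1 h1)

end dims

/-! ### The transfer -/

section tr

variable {P Γ₁ Γ₂ U W : Type u} [Group P] [Group Γ₁] [Group Γ₂] [AddCommGroup U] [DistribMulAction Γ₁ U]
  [AddCommGroup W] [DistribMulAction Γ₂ W]

/-- The situation. -/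
structure Tr (α : P →* Γ₁) (β : P →* Γ₂) (i : W →+ U) : Prop where
  inj : Function.Injective i
  eqv : ∀ p w, i (β p • w) = α p • i w
  faith : ∀ g : Γ₂, (∀ w : W, g • w = w) → g = 1

/-- `β (α⁻¹ X)` -/
def tr (α : P →* Γ₁) (β : P →* Γ₂) (X : Subgroup Γ₁) : Subgroup Γ₂ := (X.comap α).map β

theorem mem_tr {α : P →* Γ₁} {β : P →* Γ₂} {X : Subgroup Γ₁} {y : Γ₂} : y ∈ tr α β X ↔ ∃ p, α p ∈ X ∧ β p = y :=
  Iff.rfl

theorem tr_mono {α : P →* Γ₁} {β : P →* Γ₂} {X X' : Subgroup Γ₁} (h : X ≤ X') : tr α β X ≤ tr α β X' :=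
  map_mono (comap_mono h)

namespace Tr

variable {α : P →* Γ₁} {β : P →* Γ₂} {i : W →+ U} (t : Tr α β i)
include t

theorem eq_zero {w : W} : i w = 0 ↔ w = 0 := map_eq_zero_iff i t.inj

theorem map_smul_sub (p : P) (X : AddSubgroup W) : (β p • X).map i = α p • X.map i := by
  ext v
  constructor
  · rintro ⟨_, hw, rfl⟩
    obtain ⟨w, hw', rfl⟩ := (AddSubgroup.mem_smul_pointwise_iff_exists _ _ _).1 hw
    exact (AddSubgroup.mem_smul_pointwise_iff_exists _ _ _).2 ⟨i w, ⟨w, hw', rfl⟩, (t.eqv p w).symm⟩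
  · intro hv
    obtain ⟨_, ⟨w, hw, rfl⟩, rfl⟩ := (AddSubgroup.mem_smul_pointwise_iff_exists _ _ _).1 hv
    exact ⟨β p • w, AddSubgroup.smul_mem_pointwise_smul w (β p) X hw, t.eqv p w⟩

theorem map_inj {X X' : AddSubgroup W} (h : X.map i = X'.map i) : X = X' :=
  AddSubgroup.map_injective t.inj h

variable [Finite Γ₁] [Finite U] {Y Q BB : Subgroup Γ₁} {V F L C : AddSubgroup U} {h : Γ₁} {M KV S : Subgroup Γ₁}
  (B : Blk0 Y Q BB V F L C h M KV S) (hV : i.range = V) (hM : α.range = M)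
include B hV hM

omit t in
theorem exists_w {v : U} (hv : v ∈ V) : ∃ w, i w = v := by
  rw [← hV] at hv
  exact hv

omit t in
theorem i_mem (w : W) : i w ∈ V := hV ▸ ⟨w, rfl⟩

omit t hV [Finite Γ₁] [Finite U] in
theorem exists_p {m : Γ₁} (hm : m ∈ M) : ∃ p, α p = m := by
  rw [← hM] at hm
  exact hm

omit t hV hM [Finite Γ₁] [Finite U] in
theorem Y_le_M : Y ≤ M := B.YK.trans B.KM

omit t hV hM in
theorem V1_eq : V1 B.dat = img Y (AM B.dat) U := by
  refine le_antisymm (V1_le_img B.dat) ((AddSubgroup.closure_le _).2 ?_)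
  rintro _ ⟨f, a, rfl⟩
  exact B.hom_mem f a

omit t hV hM in
theorem nt : ∃ (k : Y) (b : AM B.dat), k • b ≠ b := by
  obtain ⟨s, hs, hs0⟩ := B.dat.mdl.ne
  obtain ⟨b, hb⟩ := B.dat.mdl.nt
  obtain ⟨d, -, e⟩ := B.dat.mdl.surj b hb s hs
  exact ⟨d, b, fun h0 => hs0 (by rw [← e, h0, sub_self])⟩

/-- `[W, tr Y]` is `V₁` -/
theorem cmV : (cm W (tr α β Y)).map i = V1 B.dat := by
  apply le_antisymm
  · rintro _ ⟨w, hw, rfl⟩
    induction hw using AddSubgroup.closure_induction with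
    | mem w hw =>
      obtain ⟨_, ⟨p, hp, rfl⟩, w, rfl⟩ := hw
      rw [map_sub, t.eqv]
      exact br_Y_V1 B.dat hp (i_mem B hV hM w)
    | zero => rw [map_zero]; exact zero_mem _
    | add a b _ _ ha hb => rw [map_add]; exact add_mem ha hb
    | neg a _ ha => rw [map_neg]; exact neg_mem ha
  · intro v hv
    refine B.V1_ind (P := fun v => v ∈ (cm W (tr α β Y)).map i) (zero_mem _) (fun _ _ => add_mem)
      (fun _ => neg_mem) (fun f a => ?_) hv
    have hI := B.dat.isIrr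
    refine ind_comm (Y := Y) (A := AM B.dat) (nt B) (p := fun a => (f : AM B.dat →+ U) a ∈ (cm W (tr α β Y)).map i)
      ?_ (fun a b ha hb => ?_) (fun a ha => ?_) (fun k b => ?_) a
    · rw [map_zero]; exact zero_mem _
    · rw [map_add]; exact add_mem ha hb
    · rw [map_neg]; exact neg_mem ha
    · obtain ⟨w, hw⟩ := exists_w B hV hM (V1_le B.dat (B.hom_mem f b))
      obtain ⟨p, hp⟩ := exists_p B hM (Y_le_M B k.2)
      refine ⟨β p • w - w, AddSubgroup.subset_closure ⟨β p, ⟨p, ?_, rfl⟩, w, rfl⟩, ?_⟩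
      · change α p ∈ Y
        rw [hp]
        exact k.2
      · rw [map_sub, map_sub, t.eqv, hw, hp, f.2]
        rfl

omit B hV hM [Finite Γ₁] [Finite U] in
theorem congr {p q : P} (h : α p = α q) : β p = β q := by
  have h1 := t.faith (β (q⁻¹ * p)) fun w => t.inj (by
    rw [t.eqv, map_mul, map_inv, h, inv_mul_cancel, one_smul])
  rw [map_mul, map_inv, inv_mul_eq_one] at h1
  exact h1.symm

/-- the values of `f` in `W` -/
theorem exists_cm (f : HomY Y (AM B.dat) U) (a : AM B.dat) : ∃ w ∈ cm W (tr α β Y), i w = (f : AM B.dat →+ U) a := by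
  have h1 := B.hom_mem f a
  rw [← t.cmV B hV hM] at h1
  exact h1

/-- `tr Y` is generated by involutions -/
theorem gen : tr α β Y ≤ closure {y | y ∈ tr α β Y ∧ y * y = 1} := by
  set E := closure {y | y ∈ tr α β Y ∧ y * y = 1} with hE
  let N : Subgroup Γ₁ :=
    { carrier := {n | n ∈ Y ∧ ∀ g ∈ Y, ∀ p, α p = g * n * g⁻¹ → β p ∈ E}
      one_mem' := ⟨one_mem _, fun g _ p hp => by
        have h1 : α p = α 1 := by rw [hp, map_one, mul_one, mul_inv_cancel]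
        rw [t.congr h1, map_one]
        exact one_mem _⟩
      mul_mem' := by
        rintro a b ⟨ha, ha'⟩ ⟨hb, hb'⟩
        refine ⟨mul_mem ha hb, fun g hg p hp => ?_⟩
        obtain ⟨q, hq⟩ := exists_p B hM (Y_le_M B (mul_mem (mul_mem hg ha) (inv_mem hg)))
        have h1 := ha' g hg q hq
        have h2 := hb' g hg (q⁻¹ * p) (by rw [map_mul, map_inv, hq, hp]; group)
        have e : p = q * (q⁻¹ * p) := by group
        rw [e, map_mul]
        exact mul_mem h1 h2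
      inv_mem' := by
        rintro a ⟨ha, ha'⟩
        refine ⟨inv_mem ha, fun g hg p hp => ?_⟩
        have h1 := ha' g hg p⁻¹ (by rw [map_inv, hp]; group)
        rw [map_inv] at h1
        exact inv_mem_iff.1 h1 }
  have h1 : Y ≤ N := B.dat.gen N (fun n hn => hn.1) (fun k hk n hn => ⟨mul_mem (mul_mem hk hn.1) (inv_mem hk),
    fun g hg p hp => hn.2 (g * k) (mul_mem hg hk) p (by rw [hp]; group)⟩) fun d hd => by
      refine ⟨B.dat.QY hd, fun g hg p hp => subset_closure ⟨⟨p, ?_, rfl⟩, ?_⟩⟩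
      · change α p ∈ Y
        rw [hp]
        exact mul_mem (mul_mem hg (B.dat.QY hd)) (inv_mem hg)
      · rw [← map_mul, ← map_one β]
        refine t.congr ?_
        rw [map_mul, hp, map_one]
        have e : g * d * g⁻¹ * (g * d * g⁻¹) = g * (d * d) * g⁻¹ := by group
        rw [e, B.dat.Q_sq hd]
        group
  rintro _ ⟨p, hp, rfl⟩
  exact (h1 hp).2 1 (one_mem _) p (by group)

/-- the fixed points of `tr Q` -/
theorem fxQ : fx W (tr α β Q) = F.comap i := by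
  ext w
  constructor
  · intro hw
    refine B.mem_F (i_mem B hV hM w) fun d hd => ?_
    obtain ⟨p, hp⟩ := exists_p B hM (Y_le_M B (B.dat.QY hd))
    rw [← hp, ← t.eqv, hw (β p) ⟨p, by change α p ∈ Q; rwa [hp], rfl⟩]
  · rintro hw _ ⟨p, hp, rfl⟩
    exact t.inj (by rw [t.eqv]; exact B.dat.qF _ hp _ hw)

/-- `|A₀| ≤ |tr Q|` -/
theorem card_AZM_le [Finite Γ₂] : Nat.card B.dat.AZM ≤ Nat.card (tr α β Q) := by
  have hI := B.dat.isIrr
  obtain ⟨a, ha⟩ := B.dat.mdl.nt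
  obtain ⟨f, hf⟩ := B.dat.mdl.exists_ne
  have hex : ∀ s : B.dat.AZM, ∃ p : P, ∃ hp : α p ∈ Q, (⟨α p, B.dat.QY hp⟩ : Y) • a - a = s := by
    intro s
    obtain ⟨d, hd, e⟩ := B.dat.mdl.surj a ha s s.2
    obtain ⟨p, hp⟩ := exists_p B hM (Y_le_M B d.2)
    have hdQ : (d : Γ₁) ∈ Q := mem_subgroupOf.1 hd
    refine ⟨p, hp ▸ hdQ, ?_⟩
    rw [← e]
    congr 2
    exact Subtype.ext hp
  choose p hp e using hex
  refine Nat.card_le_card_of_injective (fun s => (⟨β (p s), p s, hp s, rfl⟩ : tr α β Q)) fun s s' h1 => ?_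
  have h2 : β (p s) = β (p s') := congrArg Subtype.val h1
  have h3 : (⟨α (p s), B.dat.QY (hp s)⟩ : Y) • a = (⟨α (p s'), B.dat.QY (hp s')⟩ : Y) • a := by
    apply HomY.inj hf
    obtain ⟨w, hw⟩ := exists_w B hV hM (V1_le B.dat (B.hom_mem f a))
    rw [f.2, f.2, ← hw]
    change α (p s) • i w = α (p s') • i w
    rw [← t.eqv, ← t.eqv, h2]
  apply Subtype.ext
  rw [← e s, ← e s', h3]

/-- `dim E ≥ 2` -/
theorem two_le_dimE [Finite Γ₂] [IsIrr Y (AM B.dat)]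
    (nff : ∀ A : Subgroup Γ₂, IsPGroup 2 A → (∀ a ∈ A, ∀ w : W, a • a • w = w) → A ≠ ⊥ →
      Nat.card A * Nat.card (fx W A) < Nat.card W) :
    2 ≤ Module.finrank (KK Y (AM B.dat)) (HomY Y (AM B.dat) U) := by
  have hWf : Finite W := Finite.of_injective i t.inj
  by_contra hcon
  have hfin : Finite (AM B.dat →+ U) := Finite.of_injective (fun f => (f : AM B.dat → U)) DFunLike.coe_injective
  have hfin3 : Module.Finite (KK Y (AM B.dat)) (HomY Y (AM B.dat) U) := Module.Finite.of_finite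
  have h1 : Nat.card (HomY Y (AM B.dat) U) ≤ Nat.card (KK Y (AM B.dat)) := by
    rw [Module.natCard_eq_pow_finrank (K := KK Y (AM B.dat)) (V := HomY Y (AM B.dat) U)]
    calc Nat.card (KK Y (AM B.dat)) ^ Module.finrank (KK Y (AM B.dat)) (HomY Y (AM B.dat) U)
        ≤ Nat.card (KK Y (AM B.dat)) ^ 1 := Nat.pow_le_pow_right Nat.card_pos (by omega)
      _ = Nat.card (KK Y (AM B.dat)) := pow_one _
  have h2 := card_AZM_ge B.dat
  have h3 := t.card_AZM_le B hV hM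
  have h4 := card_V_le B.dat
  have sq : ∀ y ∈ tr α β Q, y * y = 1 := by
    rintro _ ⟨p, hp, rfl⟩
    rw [← map_mul, ← map_one β]
    exact t.congr (by rw [map_mul, map_one]; exact B.dat.Q_sq hp)
  have h5 := nff (tr α β Q) (by
      rintro ⟨y, hy⟩
      refine ⟨1, Subtype.ext ?_⟩
      change y ^ 2 ^ 1 = 1
      rw [pow_one, pow_two, sq y hy]) (fun a ha w => by rw [smul_smul, sq a ha, one_smul]) (by
      intro h0
      obtain ⟨d, hd, v, hv, hne⟩ := exists_Q B.dat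
      obtain ⟨p, hp⟩ := exists_p B hM (Y_le_M B (B.dat.QY hd))
      obtain ⟨w, rfl⟩ := exists_w B hV hM hv
      have h6 : β p ∈ tr α β Q := ⟨p, by change α p ∈ Q; rwa [hp], rfl⟩
      rw [h0, mem_bot] at h6
      apply hne
      rw [← hp, ← t.eqv, h6, one_smul])
  have h6 : Nat.card W = Nat.card V := by
    rw [← hV]
    exact Nat.card_congr (Equiv.ofInjective i t.inj)
  have h7 : Nat.card (fx W (tr α β Q)) = Nat.card F := by
    rw [t.fxQ B hV hM]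
    refine Nat.card_congr (Equiv.ofBijective (fun w : F.comap i => (⟨i w, w.2⟩ : F)) ⟨fun a b e => ?_, fun f => ?_⟩)
    · exact Subtype.ext (t.inj (congrArg Subtype.val e))
    · obtain ⟨w, hw⟩ := exists_w B hV hM (B.dat.FV f.2)
      exact ⟨⟨w, by change i w ∈ F; rw [hw]; exact f.2⟩, Subtype.ext hw⟩
  rw [h6, h7] at h5
  have h8 : Nat.card V ≤ Nat.card (tr α β Q) * Nat.card F := by
    calc Nat.card V ≤ Nat.card F * Nat.card (HomY Y (AM B.dat) U) := h4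
      _ ≤ Nat.card F * Nat.card (tr α β Q) := Nat.mul_le_mul_left _ (h1.trans (h2.trans h3))
      _ = Nat.card (tr α β Q) * Nat.card F := Nat.mul_comm _ _
  exact absurd h5 (not_lt.2 h8)

/-- the block -/
theorem isBlk [Finite Γ₂]
    (nff : ∀ A : Subgroup Γ₂, IsPGroup 2 A → (∀ a ∈ A, ∀ w : W, a • a • w = w) → A ≠ ⊥ →
      Nat.card A * Nat.card (fx W A) < Nat.card W) : IsBlk W (tr α β Y) where
  gen := t.gen B hV hM
  ex := by
    have hI := B.dat.isIrr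
    have hWf : Finite W := Finite.of_injective i t.inj
    obtain ⟨f, hf⟩ := B.dat.mdl.exists_ne
    let A₂ : AddSubgroup W := ((f : AM B.dat →+ U).range).comap i
    have hex : ∀ a : AM B.dat, ∃ w : A₂, i w = (f : AM B.dat →+ U) a := fun a => by
      obtain ⟨w, hw⟩ := exists_w B hV hM (V1_le B.dat (B.hom_mem f a))
      exact ⟨⟨w, ⟨a, hw.symm⟩⟩, hw⟩
    choose g hg using hex
    have hgadd : ∀ a b, g (a + b) = g a + g b := fun a b => Subtype.ext (t.inj (by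
      rw [hg, map_add, AddSubgroup.coe_add, map_add, hg, hg]))
    let θ : AM B.dat ≃+ A₂ := AddEquiv.ofBijective (AddMonoidHom.mk' g hgadd) ⟨fun a b e => HomY.inj hf (by
        rw [← hg, ← hg]
        exact congrArg (fun w : A₂ => i w) e), fun w => by
        obtain ⟨a, ha⟩ := w.2
        exact ⟨a, Subtype.ext (t.inj ((hg a).trans ha))⟩⟩
    have hθ : ∀ a, i (θ a : W) = (f : AM B.dat →+ U) a := hg
    have hinv : ∀ y ∈ tr α β Y, ∀ a ∈ A₂, y • a ∈ A₂ := by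
      rintro _ ⟨p, hp, rfl⟩ a ⟨b, hb⟩
      exact ⟨(⟨α p, hp⟩ : Y) • b, by rw [f.2, t.eqv, hb]; rfl⟩
    let _ : DistribMulAction (tr α β Y) A₂ := subAct (tr α β Y) A₂ hinv
    have hm : EqvM (W := W) (fun (k : Y) (y : tr α β Y) => ∃ p, α p = k ∧ β p = y) θ i :=
      { l := fun k => by
          obtain ⟨p, hp⟩ := exists_p B hM (Y_le_M B k.2)
          exact ⟨⟨β p, p, by change α p ∈ Y; rw [hp]; exact k.2, rfl⟩, p, hp, rfl⟩
        r := by
          rintro ⟨_, p, hp, rfl⟩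
          exact ⟨⟨α p, hp⟩, p, rfl, rfl⟩
        e := by
          rintro ⟨_, hk⟩ ⟨_, hy⟩ ⟨p, rfl, rfl⟩ a
          apply Subtype.ext
          apply t.inj
          rw [hθ]
          change _ = i (β p • (θ a : W))
          rw [t.eqv, hθ, f.2]
          rfl
        inj := t.inj
        eqv := by
          rintro ⟨_, hk⟩ ⟨_, hy⟩ ⟨p, rfl, rfl⟩ w
          exact t.eqv p w
        val := fun f a => exists_w B hV hM (V1_le B.dat (B.hom_mem f a)) }
    have hI₂ : IsIrr (tr α β Y) A₂ := hm.toEqv.irr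
    refine ⟨A₂, inferInstance, inferInstance, inferInstance, hI₂, hm.toEqv.allTv (allTv B.dat), fun a => ?_, ?_, ?_, ?_⟩
    · exact Subtype.ext (t.inj (by
        rw [AddSubgroup.coe_add, map_add, B.dat.two, AddSubgroup.coe_zero, map_zero]))
    · apply t.map_inj
      rw [t.cmV B hV hM, hm.map_img, V1_eq B]
    · rw [← hm.toEqv.finrank]
      exact two_le_dimA B.dat
    · rw [← hm.finrank_hom]
      exact t.two_le_dimE B hV hM nff

/-- **One panel on `V`.** -/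
theorem pb [Finite Γ₂]
    (nff : ∀ A : Subgroup Γ₂, IsPGroup 2 A → (∀ a ∈ A, ∀ w : W, a • a • w = w) → A ≠ ⊥ →
      Nat.card A * Nat.card (fx W A) < Nat.card W) : PB W β.range (F.comap i) (tr α β Y) (tr α β KV) where
  blk := t.isBlk B hV hM nff
  YK := tr_mono B.YK
  KM := by
    rintro _ ⟨p, -, rfl⟩
    exact ⟨p, rfl⟩
  nK := by
    rintro _ ⟨m, rfl⟩ _ ⟨p, hp, rfl⟩
    refine ⟨m * p * m⁻¹, ?_, by rw [map_mul, map_mul, map_inv]⟩
    change α (m * p * m⁻¹) ∈ KV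
    rw [map_mul, map_mul, map_inv]
    exact B.nK _ (hM ▸ ⟨m, rfl⟩) _ hp
  flat := ⟨tr α β Q, tr_mono B.dat.QY, t.fxQ B hV hM⟩
  dich := by
    rintro _ ⟨m, rfl⟩
    rcases B.dich (m := α m) (hM ▸ ⟨m, rfl⟩) with h1 | h1
    · left
      apply t.map_inj
      rw [t.map_smul_sub, t.cmV B hV hM, h1]
    · right
      rw [eq_bot_iff]
      intro w hw
      have h2 : i w ∈ V1 B.dat ⊓ α m • V1 B.dat := by
        rw [← t.cmV B hV hM, ← t.map_smul_sub]
        exact ⟨⟨w, hw.2, rfl⟩, ⟨w, hw.1, rfl⟩⟩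
      rw [h1, AddSubgroup.mem_bot] at h2
      exact AddSubgroup.mem_bot.2 (t.eq_zero.1 h2)
  cen := by
    rintro _ ⟨m, rfl⟩ hne _ ⟨p, hp, rfl⟩ v hv
    apply t.inj
    rw [t.eqv]
    have h1 : i v ∈ α m • V1 B.dat := by
      rw [← t.cmV B hV hM, ← t.map_smul_sub]
      exact ⟨v, hv, rfl⟩
    have h2 := B.cent (m := 1) (m' := α m) (one_mem _) (hM ▸ ⟨m, rfl⟩) (fun e => hne (by
      apply t.map_inj
      rw [t.map_smul_sub, t.cmV B hV hM, ← e, one_smul])) hp h1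
    rwa [one_mul, inv_one, mul_one] at h2
  stab := by
    rintro _ ⟨p, hp, rfl⟩
    apply t.map_inj
    rw [t.map_smul_sub, t.cmV B hV hM]
    have h1 := B.smul_eq_K (m := 1) (one_mem _) hp
    rwa [one_smul] at h1
  lin := by
    rintro _ ⟨p, hp, rfl⟩ e he v v' hvv
    have hst : ∀ w ∈ cm W (tr α β Y), β p • w ∈ cm W (tr α β Y) := by
      intro w hw
      have h1 : i (β p • w) ∈ (cm W (tr α β Y)).map i := by
        rw [t.cmV B hV hM, t.eqv]
        refine B.V1_K hp ?_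
        rw [← t.cmV B hV hM]
        exact ⟨w, hw, rfl⟩
      obtain ⟨w', hw', e'⟩ := h1
      rwa [← t.inj e']
    have key : ∀ u ∈ V1 B.dat, ∃ v : cm W (tr α β Y), i v = u ∧
        ∀ v' : cm W (tr α β Y), (v' : W) = β p • (v : W) → (e v' : W) = β p • (e v : W) := by
      intro u hu
      refine B.V1_ind (P := fun u => ∃ v : cm W (tr α β Y), i v = u ∧
        ∀ v' : cm W (tr α β Y), (v' : W) = β p • (v : W) → (e v' : W) = β p • (e v : W)) ?_ ?_ ?_ ?_ hu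
      · refine ⟨0, map_zero i, fun v' h1 => ?_⟩
        have h2 : v' = 0 := Subtype.ext (by rw [h1]; exact smul_zero _)
        rw [h2, map_zero, AddSubgroup.coe_zero, smul_zero]
      · rintro a b ⟨va, ha, ha'⟩ ⟨vb, hb, hb'⟩
        refine ⟨va + vb, by rw [AddSubgroup.coe_add, map_add, ha, hb], fun v' h1 => ?_⟩
        have h2 : v' = ⟨β p • (va : W), hst _ va.2⟩ + ⟨β p • (vb : W), hst _ vb.2⟩ := Subtype.ext (by
          rw [h1, AddSubgroup.coe_add, AddSubgroup.coe_add, smul_add])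
        have ea := ha' ⟨β p • (va : W), hst _ va.2⟩ rfl
        have eb := hb' ⟨β p • (vb : W), hst _ vb.2⟩ rfl
        rw [h2, map_add, map_add, AddSubgroup.coe_add, AddSubgroup.coe_add, smul_add, ea, eb]
      · rintro a ⟨va, ha, ha'⟩
        refine ⟨-va, by rw [AddSubgroup.coe_neg, map_neg, ha], fun v' h1 => ?_⟩
        have h2 : v' = -⟨β p • (va : W), hst _ va.2⟩ := Subtype.ext (by
          rw [h1, AddSubgroup.coe_neg, AddSubgroup.coe_neg, smul_neg])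
        have ea := ha' ⟨β p • (va : W), hst _ va.2⟩ rfl
        rw [h2, map_neg, map_neg, AddSubgroup.coe_neg, AddSubgroup.coe_neg, smul_neg, ea]
      · intro f a
        choose g hg hgi using fun a => t.exists_cm B hV hM f a
        have hgs : ∀ a b : AM B.dat, (⟨g (a + b), hg _⟩ : cm W (tr α β Y)) = ⟨g a, hg a⟩ + ⟨g b, hg b⟩ := fun a b =>
          Subtype.ext (t.inj (by rw [hgi, AddSubgroup.coe_add, map_add, map_add, hgi, hgi]))
        let f' : HomY Y (AM B.dat) U := ⟨AddMonoidHom.mk' (fun a => i (e ⟨g a, hg a⟩)) fun a b => by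
          rw [hgs, map_add, AddSubgroup.coe_add, map_add], fun k a => by
            obtain ⟨q, hq⟩ := exists_p B hM (Y_le_M B k.2)
            change i (e ⟨g (k • a), hg _⟩) = (k : Γ₁) • i (e ⟨g a, hg a⟩)
            rw [← hq, ← t.eqv]
            congr 1
            refine he (β q) ⟨q, by change α q ∈ Y; rw [hq]; exact k.2, rfl⟩ ⟨g a, hg a⟩ ⟨g (k • a), hg _⟩ ?_
            apply t.inj
            rw [t.eqv, hq, hgi]
            change (f : AM B.dat →+ U) (k • a) = (k : Γ₁) • i (g a)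
            rw [hgi, f.2]
            rfl⟩
        refine ⟨⟨g a, hg a⟩, hgi a, fun v' h1 => ?_⟩
        have h2 : v' = ⟨g (B.kA hp a), hg _⟩ := by
          apply Subtype.ext
          apply t.inj
          rw [h1, t.eqv]
          change α p • i (g a) = i (g (B.kA hp a))
          rw [hgi, hgi, B.smul_hom hp]
        rw [h2]
        apply t.inj
        rw [t.eqv]
        exact (B.smul_hom hp f' a).symm
    obtain ⟨v1, h1, h2⟩ := key (i v) (by rw [← t.cmV B hV hM]; exact ⟨v, v.2, rfl⟩)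
    have h3 : v1 = v := Subtype.ext (t.inj h1)
    subst h3
    exact h2 v' hvv

/-- `W = [W, tr Y] + C_W(tr Y)` -/
theorem dec (w : W) : ∃ a ∈ cm W (tr α β Y), ∃ c : W, (∀ y ∈ tr α β Y, y • c = c) ∧ w = a + c := by
  obtain ⟨v1, hv1, c, hc, hcY, e⟩ := TBlk.split B.dat (i_mem B hV hM w)
  rw [← t.cmV B hV hM] at hv1
  obtain ⟨a, ha, rfl⟩ := hv1
  obtain ⟨c', rfl⟩ := exists_w B hV hM hc
  refine ⟨a, ha, c', ?_, t.inj (by rw [e, map_add])⟩
  rintro _ ⟨p, hp, rfl⟩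
  exact t.inj (by rw [t.eqv, hcY _ hp])

end Tr

end tr

end Cfsg.Agent.Omega.NO3b.BasePt

end

-- merged: Cfsg.Agent.Mrg.Omega.NO3b.BasePt.OfPanel
section

/-!
# NotFFG (NO-3L), the base point: a panel on `V` from `Blk0` in `U` (helper957)

`V ≤ U` abelian subgroups, `H ≤ N_G(U)`, `N ≤ N_G(V)`, `M₀ ≤ H ∩ N`.

* `trG hH hN M₀ X` : the image in `XX hN` of the elements of `M₀` whose image in `XX hH` lies in `X`;
* **`pb_of_blk0`** : `Blk0 .. (ad hU V) (ad hU F₀) .. (im hH M₀) KV S'` gives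
  `PB (MU hV) (im hN M₀) (ad hV F₀) (trG Y) (trG KV)`, if `V` is not FF;
* `dec_of_blk0` : `V = [V, trG Y] + C_V(trG Y)`.
-/

set_option autoImplicit false

namespace Cfsg.Agent.Omega.NO3b.BasePt

open Subgroup Cfsg
open Cfsg.Agent.Omega.NO3b.EZero (NotFF)
open Cfsg.Agent.Omega.NO3b.Exit
open Cfsg.Agent.Omega.NO3b.Exit.Bridge
open Cfsg.Agent.Omega.NO3b.Exit.BlkZ (Blk0)
open Cfsg.Agent.Omega.NO3b.Exit.LocBar (pr_mem_im)
open Cfsg.Agent.Omega.NO3b.Chain (pre mem_pre pre_le)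
open Cfsg.Agent.Omega.FFBr (XX pr im mem_im card_im pr_eq_one pr_surjective)
open Cfsg.Agent.Omega.FF.Basic (fx)
open scoped Pointwise

universe u

variable {G : Type u} [Group G] {U V H N M₀ : Subgroup G}

/-! ### Lifting of 2-subgroups, `NotFF` -/

section lift

variable (hN : N ≤ normalizer (V : Set G))

/-- every 2-subgroup of `XX hN` is the image of a 2-subgroup of `N` -/
theorem exists_im [Finite G] {A : Subgroup (XX hN)} (hA : IsPGroup 2 A) :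
    ∃ A₀ : Subgroup G, A₀ ≤ N ∧ IsPGroup 2 A₀ ∧ im hN A₀ = A := by
  have hfact : Fact (Nat.Prime 2) := ⟨Nat.prime_two⟩
  set K : Subgroup N := A.comap (pr hN) with hK
  let ψ : K →* A := ((pr hN).comp K.subtype).codRestrict A fun x => x.2
  have hψ : Function.Surjective ψ := by
    rintro ⟨y, hy⟩
    obtain ⟨x, rfl⟩ := pr_surjective hN y
    exact ⟨⟨x, hy⟩, rfl⟩
  obtain ⟨P⟩ := (inferInstance : Nonempty (Sylow 2 K))
  have h1 : (P.mapSurjective hψ : Subgroup A) = ⊤ := by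
    apply (P.mapSurjective hψ).3 _ le_top |>.symm
    exact hA.of_equiv Subgroup.topEquiv.symm
  refine ⟨((P : Subgroup K).map K.subtype).map N.subtype, map_subtype_le _, (P.2.map _).map _, ?_⟩
  apply le_antisymm
  · rintro _ ⟨x, ⟨_, ⟨k, -, rfl⟩, hk⟩, rfl⟩
    have e : x = (k : N) := Subtype.ext hk.symm
    rw [e]
    exact k.2
  · intro y hy
    have h2 : (⟨y, hy⟩ : A) ∈ (P.mapSurjective hψ : Subgroup A) := by rw [h1]; exact mem_top _
    rw [Sylow.coe_mapSurjective] at h2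
    obtain ⟨k, hk, hky⟩ := h2
    refine ⟨(k : N), ⟨(k : N), ⟨k, hk, rfl⟩, rfl⟩, congrArg Subtype.val hky⟩

variable {hV : V ≤ centralizer (V : Set G)}

/-- `NotFF` on the module -/
theorem nff_bar [Finite G] (nff : NotFF V) (A : Subgroup (XX hN)) (hA : IsPGroup 2 A)
    (hsq : ∀ a ∈ A, ∀ w : MU hV, a • a • w = w) (hne : A ≠ ⊥) :
    Nat.card A * Nat.card (fx (MU hV) A) < Nat.card (MU hV) := by
  obtain ⟨A₀, hA₀N, hA₀p, rfl⟩ := exists_im hN hA
  have hsq' : ∀ a ∈ A₀, a ^ 2 ∈ centralizer (V : Set G) := by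
    intro a ha
    rw [mem_centralizer_iff]
    intro v hv
    have h1 := congrArg val (hsq (pr hN ⟨a, hA₀N ha⟩) (pr_mem_im hN ha (hA₀N ha)) (Bridge.mk hV hv))
    have h2 : a * (a * v * a⁻¹) * a⁻¹ = v := h1
    have e : v * a ^ 2 = (a * (a * v * a⁻¹) * a⁻¹) * a ^ 2 := by rw [h2]
    rw [e, pow_two]; group
  have hcomm : ∀ a ∈ A₀, ∀ b ∈ A₀, a * b * a⁻¹ * b⁻¹ ∈ centralizer (V : Set G) := by
    intro a ha b hb
    have hVn : (centralizer (V : Set G)).subgroupOf (normalizer (V : Set G)) |>.Normal := inferInstance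
    have h1 := hsq' a ha
    have h2 := hsq' b hb
    have h3 := hsq' (a * b) (mul_mem ha hb)
    have e : a * b * a⁻¹ * b⁻¹ = (a * b) ^ 2 * ((b⁻¹ * (a ^ 2)⁻¹ * b)) * (b ^ 2)⁻¹ := by
      rw [pow_two, pow_two, pow_two]; group
    rw [e]
    refine mul_mem (mul_mem h3 ?_) (inv_mem h2)
    have h4 := hVn.conj_mem ⟨(a ^ 2)⁻¹, inv_mem (centralizer_le_normalizer _ h1)⟩ (inv_mem h1)
      (⟨b, hN (hA₀N hb)⟩⁻¹ : ↥(normalizer (V : Set G)))
    have h5 : b⁻¹ * (a ^ 2)⁻¹ * (b⁻¹)⁻¹ ∈ centralizer (V : Set G) := h4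
    rwa [inv_inv] at h5
  have hnc : ¬ A₀ ≤ centralizer (V : Set G) := fun h0 => hne (by
    rw [eq_bot_iff]
    rintro _ ⟨a, ha, rfl⟩
    exact mem_bot.2 ((pr_eq_one hN).2 (h0 ha)))
  have h1 := nff A₀ hA₀p (hA₀N.trans hN) hsq' hcomm hnc
  rw [fx_im hN hA₀N, card_ad, card_MU]
  have c1 := card_im hN hA₀N
  have r1 := NOThreeL.Star.rel_mul_card A₀ (centralizer (V : Set G))
  have r2 := NOThreeL.Star.rel_mul_card V (centralizer (A₀ : Set G))
  have e1 : Nat.card (im hN A₀) = (centralizer (V : Set G)).relIndex A₀ := by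
    rw [← c1] at r1
    exact (Nat.eq_of_mul_eq_mul_right Nat.card_pos r1).symm
  rw [e1, ← r2]
  exact Nat.mul_lt_mul_of_pos_right h1 Nat.card_pos

end lift

/-! ### The transfer -/

section

variable (hH : H ≤ normalizer (U : Set G)) (hN : N ≤ normalizer (V : Set G))

/-- the image in `XX hN` of the elements of `M₀` whose image in `XX hH` lies in `X` -/
def trG (M₀ : Subgroup G) (X : Subgroup (XX hH)) : Subgroup (XX hN) := im hN (M₀ ⊓ pre hH X)

theorem mem_trG (hMH : M₀ ≤ H) (hMN : M₀ ≤ N) {X : Subgroup (XX hH)} {y : XX hN} :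
    y ∈ trG hH hN M₀ X ↔ ∃ m, ∃ hm : m ∈ M₀, pr hH ⟨m, hMH hm⟩ ∈ X ∧ pr hN ⟨m, hMN hm⟩ = y := by
  constructor
  · rintro ⟨m, ⟨hm, hm'⟩, rfl⟩
    obtain ⟨_, h1⟩ := (mem_pre hH).1 hm'
    exact ⟨m, hm, h1, rfl⟩
  · rintro ⟨m, hm, h1, rfl⟩
    exact ⟨⟨m, hMN hm⟩, ⟨hm, (mem_pre hH).2 ⟨hMH hm, h1⟩⟩, rfl⟩

theorem trG_mono {X X' : Subgroup (XX hH)} (h : X ≤ X') : trG hH hN M₀ X ≤ trG hH hN M₀ X' := by
  rintro _ ⟨m, ⟨hm, hm'⟩, rfl⟩
  obtain ⟨h1, h2⟩ := (mem_pre hH).1 hm'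
  exact ⟨m, ⟨hm, (mem_pre hH).2 ⟨h1, h h2⟩⟩, rfl⟩

theorem trG_eq (hMH : M₀ ≤ H) (hMN : M₀ ≤ N) (X : Subgroup (XX hH)) :
    tr ((pr hH).comp (inclusion hMH)) ((pr hN).comp (inclusion hMN)) X = trG hH hN M₀ X := by
  ext y
  rw [mem_trG hH hN hMH hMN, mem_tr]
  constructor
  · rintro ⟨p, hp, rfl⟩
    exact ⟨p, p.2, hp, rfl⟩
  · rintro ⟨m, hm, h1, rfl⟩
    exact ⟨⟨m, hm⟩, h1, rfl⟩

/-- the range is `im` -/
theorem range_eq (hMH : M₀ ≤ H) : ((pr hH).comp (inclusion hMH)).range = im hH M₀ := by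
  ext y
  constructor
  · rintro ⟨m, rfl⟩
    exact ⟨⟨m, hMH m.2⟩, m.2, rfl⟩
  · rintro ⟨m, hm, rfl⟩
    exact ⟨⟨m, hm⟩, rfl⟩

variable (hU : U ≤ centralizer (U : Set G)) (hV : V ≤ centralizer (V : Set G))

/-- `V → U` -/
def iVU (hVU : V ≤ U) : MU hV →+ MU hU := AddMonoidHom.mk' (fun w => Bridge.mk hU (hVU (val_mem w))) fun _ _ => rfl

theorem val_iVU (hVU : V ≤ U) (w : MU hV) : val (iVU hU hV hVU w) = val w := rfl

theorem range_iVU (hVU : V ≤ U) : (iVU hU hV hVU).range = ad hU V := by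
  ext w
  constructor
  · rintro ⟨v, rfl⟩
    exact val_mem v
  · intro hw
    exact ⟨Bridge.mk hV hw, rfl⟩

theorem comap_iVU (hVU : V ≤ U) (F₀ : Subgroup G) : (ad hU F₀).comap (iVU hU hV hVU) = ad hV F₀ := rfl

theorem tr_iVU (hVU : V ≤ U) (hMH : M₀ ≤ H) (hMN : M₀ ≤ N) :
    Tr ((pr hH).comp (inclusion hMH)) ((pr hN).comp (inclusion hMN)) (iVU hU hV hVU) where
  inj _ _ h := val_inj (congrArg (fun x : MU hU => val x) h)
  eqv _ _ := rfl
  faith := faith hN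

variable {hH hN hU hV}

/-- **One panel on `V`.** -/
theorem pb_of_blk0 [Finite G] (hVU : V ≤ U) (hMH : M₀ ≤ H) (hMN : M₀ ≤ N) (nff : NotFF V) {F₀ : Subgroup G}
    {Y Q BB KV S' : Subgroup (XX hH)} {Lw C : AddSubgroup (MU hU)} {x : XX hH}
    (B : Blk0 Y Q BB (ad hU V) (ad hU F₀) Lw C x (im hH M₀) KV S') :
    PB (MU hV) (im hN M₀) (ad hV F₀) (trG hH hN M₀ Y) (trG hH hN M₀ KV) := by
  have h1 := (tr_iVU hH hN hU hV hVU hMH hMN).pb B (range_iVU hU hV hVU) (range_eq hH hMH)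
    (nff_bar hN (hV := hV) nff)
  rwa [range_eq hN hMN, trG_eq hH hN hMH hMN, trG_eq hH hN hMH hMN, comap_iVU] at h1

theorem dec_of_blk0 [Finite G] (hVU : V ≤ U) (hMH : M₀ ≤ H) (hMN : M₀ ≤ N) {F₀ : Subgroup G}
    {Y Q BB KV S' : Subgroup (XX hH)} {Lw C : AddSubgroup (MU hU)} {x : XX hH}
    (B : Blk0 Y Q BB (ad hU V) (ad hU F₀) Lw C x (im hH M₀) KV S') (w : MU hV) :
    ∃ a ∈ cm (MU hV) (trG hH hN M₀ Y), ∃ c : MU hV, (∀ y ∈ trG hH hN M₀ Y, y • c = c) ∧ w = a + c := by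
  have h1 := (tr_iVU hH hN hU hV hVU hMH hMN).dec B (range_iVU hU hV hVU) (range_eq hH hMH) w
  rwa [trG_eq hH hN hMH hMN] at h1

/-- `{m | [U, m] ≤ V}` decreases with `U` -/
theorem trG_KV_le {U' H' : Subgroup G} {hH' : H' ≤ normalizer (U' : Set G)} {hU' : U' ≤ centralizer (U' : Set G)}
    (hUU : U' ≤ U) (hMH' : M₀ ≤ H') {KV : Subgroup (XX hH)} {KV' : Subgroup (XX hH')}
    (h1 : ∀ k ∈ KV, ∀ u : MU hU, k • u - u ∈ ad hU V)
    (h2 : ∀ k, k ∈ im hH' M₀ → (∀ u : MU hU', k • u - u ∈ ad hU' V) → k ∈ KV') :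
    trG hH hN M₀ KV ≤ trG hH' hN M₀ KV' := by
  rintro _ ⟨m, ⟨hm, hm'⟩, rfl⟩
  obtain ⟨h3, h4⟩ := (mem_pre hH).1 hm'
  refine ⟨m, ⟨hm, (mem_pre hH').2 ⟨hMH' hm, h2 _ (pr_mem_im hH' hm (hMH' hm)) fun u => ?_⟩⟩, rfl⟩
  exact h1 _ h4 (Bridge.mk hU (hUU (val_mem u)))

end

end Cfsg.Agent.Omega.NO3b.BasePt

end

-- merged: Cfsg.Agent.Mrg.Omega.NO3b.BasePt.FamU
section

/-!
# NotFFG (3L-T), (B): the family of the blocks of all panels, abstractly

`V ≤ U_p` abelian subgroups of `G`, `M₀ ≤ N ≤ N_G(V)`; panels `p` with flat `F p < V` and a `Blk0` in `U_p` (`BU`); for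
two panels `p`, `q` some `U' ≥ U_p, U_q` with a `Blk0` for `p` or for `q` in `U'`.

* `Cj`, `Mt` : conjugate, mutually trivial under `M`;
* `PU` : the block `Y` of a panel on `V`, from `U`; `PU.cj` : the blocks of one panel from `U` and from `U' ≤ U` are
  conjugate; `dich_two` : two panels;
* `fam_of`, `gas_of` : `Fam` and `W = Σ [W, Y] + C_W(∏ Y)`;
* **`exists_fam`**.
-/

set_option autoImplicit false

namespace Cfsg.Agent.Omega.NO3b.BasePt.FamG

open Subgroup Cfsg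
open Cfsg.Agent.Omega.NO3b.EZero (NotFF)
open Cfsg.Agent.Omega.NO3b.Exit
open Cfsg.Agent.Omega.NO3b.Exit.Bridge
open Cfsg.Agent.Omega.NO3b.Exit.Descent
open Cfsg.Agent.Omega.NO3b.Exit.TDat (KV Red)
open Cfsg.Agent.Omega.NO3b.Exit.LocBar (pr_mem_im im_mono)
open Cfsg.Agent.Omega.NO3b.Exit.BlkZ (Blk0)
open Cfsg.Agent.Omega.NO3b.Chain (pre mem_pre)
open Cfsg.Agent.Omega.FFBr (XX pr im mem_im)
open Cfsg.Agent.Omega.FF.Basic (fx)
open scoped Pointwise

universe u v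

section abs

variable {Γ : Type u} [Group Γ] (W : Type v) [AddCommGroup W] [DistribMulAction Γ W]

/-- `Y`, `Y'` conjugate under `M` -/
def Cj (M Y Y' : Subgroup Γ) : Prop := ∃ m ∈ M, Y' = Y.map (MulAut.conj m).toMonoidHom

/-- `Y`, `Y'` mutually trivial -/
def Mt (M Y Y' : Subgroup Γ) : Prop :=
  ∀ m ∈ M, (∀ y ∈ Y, ∀ v ∈ m • cm W Y', y • v = v) ∧ ∀ y ∈ Y', ∀ v ∈ m • cm W Y, y • v = v

variable {W} {M Y Y' Y'' : Subgroup Γ}

theorem cm_conj (m : Γ) (Y : Subgroup Γ) : cm W (Y.map (MulAut.conj m).toMonoidHom) = m • cm W Y := by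
  unfold cm
  have e : m • AddSubgroup.closure {v : W | ∃ y ∈ Y, ∃ w : W, v = y • w - w} =
      AddSubgroup.closure (DistribSMul.toAddMonoidHom W m '' {v : W | ∃ y ∈ Y, ∃ w : W, v = y • w - w}) :=
    AddMonoidHom.map_closure (DistribSMul.toAddMonoidHom W m) _
  rw [e]
  congr 1
  ext v
  rw [Set.mem_image]
  constructor
  · rintro ⟨_, ⟨y, hy, rfl⟩, w, rfl⟩
    refine ⟨y • (m⁻¹ • w) - m⁻¹ • w, ⟨y, hy, m⁻¹ • w, rfl⟩, ?_⟩
    change m • (y • (m⁻¹ • w) - m⁻¹ • w) = (m * y * m⁻¹) • w - w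
    rw [smul_sub, smul_inv_smul, mul_smul, mul_smul]
  · rintro ⟨_, ⟨y, hy, w, rfl⟩, rfl⟩
    refine ⟨m * y * m⁻¹, ⟨y, hy, rfl⟩, m • w, ?_⟩
    change m • (y • w - w) = (m * y * m⁻¹) • (m • w) - m • w
    rw [smul_sub, mul_smul, mul_smul, inv_smul_smul]

theorem map_conj_map (m n : Γ) (Y : Subgroup Γ) :
    (Y.map (MulAut.conj m).toMonoidHom).map (MulAut.conj n).toMonoidHom = Y.map (MulAut.conj (n * m)).toMonoidHom := by
  rw [Subgroup.map_map]
  congr 1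
  ext x
  simp

theorem map_conj_one (Y : Subgroup Γ) : Y.map (MulAut.conj (1 : Γ)).toMonoidHom = Y := by
  ext x
  simp

theorem Cj.refl (M Y : Subgroup Γ) : Cj M Y Y := ⟨1, one_mem _, (map_conj_one Y).symm⟩

theorem Cj.symm (h : Cj M Y Y') : Cj M Y' Y := by
  obtain ⟨m, hm, rfl⟩ := h
  exact ⟨m⁻¹, inv_mem hm, by rw [map_conj_map, inv_mul_cancel, map_conj_one]⟩

theorem Cj.trans (h : Cj M Y Y') (h' : Cj M Y' Y'') : Cj M Y Y'' := by
  obtain ⟨m, hm, rfl⟩ := h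
  obtain ⟨n, hn, rfl⟩ := h'
  exact ⟨n * m, mul_mem hn hm, map_conj_map _ _ _⟩

theorem Mt.symm (h : Mt W M Y Y') : Mt W M Y' Y := fun m hm => ⟨(h m hm).2, (h m hm).1⟩

theorem mem_smul' {K : AddSubgroup W} {m : Γ} {v : W} : v ∈ m • K ↔ m⁻¹ • v ∈ K :=
  AddSubgroup.mem_pointwise_smul_iff_inv_smul_mem

theorem Mt.left (h : Mt W M Y Y') (hc : Cj M Y Y'') : Mt W M Y'' Y' := by
  obtain ⟨n, hn, rfl⟩ := hc
  intro m hm
  constructor
  · rintro _ ⟨y, hy, rfl⟩ v hv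
    have h1 := (h (n⁻¹ * m) (mul_mem (inv_mem hn) hm)).1 y hy (n⁻¹ • v) (by
      rw [mem_smul', smul_smul, mul_inv_rev, inv_inv, mul_assoc, mul_inv_cancel, mul_one]
      exact mem_smul'.1 hv)
    change (n * y * n⁻¹) • v = v
    rw [mul_smul, mul_smul, h1, smul_inv_smul]
  · intro y hy v hv
    rw [cm_conj, smul_smul] at hv
    exact (h (m * n) (mul_mem hm hn)).2 y hy v hv

/-- two blocks of one family: the dichotomy for `Ya`, `Yb` from the dichotomies of `Y₀` with both. -/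
theorem dich {Y₀ Ya Yb : Subgroup Γ} (h1 : Cj M Y₀ Ya) (h2 : Cj M Y₀ Yb ∨ Mt W M Y₀ Yb) :
    Cj M Ya Yb ∨ Mt W M Ya Yb := by
  rcases h2 with h2 | h2
  · exact Or.inl (h1.symm.trans h2)
  · exact Or.inr (h2.left h1)

/-- the blocks of one panel are conjugate -/
theorem cj_of_flat {F : AddSubgroup W} (hF : ∃ w : W, w ∉ F)
    {Y₀ Y : Subgroup Γ} (f0 : ∃ Q ≤ Y₀, fx W Q = F) (f1 : ∃ Q ≤ Y, fx W Q = F)
    (dec : ∀ w : W, ∃ a ∈ cm W Y, ∃ c : W, (∀ y ∈ Y, y • c = c) ∧ w = a + c)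
    (h : Cj M Y₀ Y ∨ Mt W M Y₀ Y) : Cj M Y₀ Y := by
  rcases h with h | h
  · exact h
  exfalso
  obtain ⟨Q₀, h0, e0⟩ := f0
  obtain ⟨Q, h1, e1⟩ := f1
  obtain ⟨w, hw⟩ := hF
  apply hw
  obtain ⟨a, ha, c, hc, rfl⟩ := dec w
  have h2 : a ∈ fx W Q₀ := fun q hq => (h 1 (one_mem _)).1 q (h0 hq) a (by rwa [one_smul])
  have h3 : c ∈ fx W Q := fun q hq => hc q (h1 hq)
  rw [e0] at h2
  rw [e1] at h3
  exact add_mem h2 h3

end abs

/-! ### The family -/

section fam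

variable {Γ : Type u} [Group Γ] {W : Type v} [AddCommGroup W] [DistribMulAction Γ W] {M : Subgroup Γ}
  {ι : Type*} {Y K : ι → Subgroup Γ} {F : ι → AddSubgroup W}

/-- all the `M`-conjugates of the `Y i` -/
def orb (M : Subgroup Γ) (Y : ι → Subgroup Γ) : Set (Subgroup Γ) := {Y' | ∃ i, Cj M (Y i) Y'}

/-- `Y` moves its block -/
theorem exists_moved [Finite W] {Y : Subgroup Γ} (h : IsBlk W Y) : ∃ y ∈ Y, ∃ v ∈ cm W Y, y • v ≠ v := by
  obtain ⟨A, _, _, _, hI, tv, two, hV, dA, dE⟩ := h.ex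
  obtain ⟨f, hf⟩ := Pr.exists_hom_ne dE
  by_contra hcon
  push Not at hcon
  apply hf
  apply Subtype.ext
  ext a
  have h1 : (f : A →+ W) a ∈ cm W Y := by
    rw [hV]
    exact mem_img f a
  exact Pr.fix_eq_zero dA (Pr.allT_self (W := W) tv) (mem_img f a) fun y hy => hcon y hy _ h1

/-- conjugates with the same block are equal -/
theorem eq_of_cm [Finite Γ] [Finite W] (faith : ∀ g : Γ, (∀ w : W, g • w = w) → g = 1)
    (two : ∀ w : W, w + w = 0) (red : Red M (⊤ : AddSubgroup W)) {F : AddSubgroup W} {Y K : Subgroup Γ}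
    (p : PB W M F Y K) {m : Γ} (hm : m ∈ M) (h : m • cm W Y = cm W Y) :
    Y.map (MulAut.conj m).toMonoidHom = Y := by
  refine Pr.pair_core faith two red (Pr.pb_conj p hm) p le_rfl ?_
  obtain ⟨y, hy, v, hv, hne⟩ := exists_moved p.blk
  refine ⟨m * y * m⁻¹, Pr.cj_mem hy, m • v, ?_, fun h1 => hne ?_⟩
  · rw [← h]
    exact AddSubgroup.smul_mem_pointwise_smul _ _ _ hv
  · rw [mul_smul, mul_smul, inv_smul_smul] at h1
    exact smul_left_cancel m h1

theorem Cj.dec {Y₁ Y₂ : Subgroup Γ} (h : Cj M Y₁ Y₂)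
    (d : ∀ w : W, ∃ a ∈ cm W Y₁, ∃ c : W, (∀ y ∈ Y₁, y • c = c) ∧ w = a + c) (w : W) :
    ∃ a ∈ cm W Y₂, ∃ c : W, (∀ y ∈ Y₂, y • c = c) ∧ w = a + c := by
  obtain ⟨m, hm, rfl⟩ := h
  obtain ⟨a, ha, c, hc, e⟩ := d (m⁻¹ • w)
  refine ⟨m • a, ?_, m • c, ?_, ?_⟩
  · rw [cm_conj, mem_smul', inv_smul_smul]
    exact ha
  · rintro _ ⟨y, hy, rfl⟩
    change (m * y * m⁻¹) • m • c = m • c
    rw [mul_smul, mul_smul, inv_smul_smul, hc y hy]
  · rw [← smul_add, ← e, smul_inv_smul]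

theorem fam_of [Finite Γ] [Finite W] (faith : ∀ g : Γ, (∀ w : W, g • w = w) → g = 1) (two : ∀ w : W, w + w = 0)
    (red : Red M (⊤ : AddSubgroup W)) (pb : ∀ i, PB W M (F i) (Y i) (K i))
    (d : ∀ i j, Cj M (Y i) (Y j) ∨ Mt W M (Y i) (Y j)) : Fam W M (orb M Y) where
  faith := faith
  two := two
  le := by
    rintro _ ⟨i, m, hm, rfl⟩ _ ⟨y, hy, rfl⟩
    exact mul_mem (mul_mem hm ((pb i).KM ((pb i).YK hy))) (inv_mem hm)
  conj := by
    rintro Y' ⟨i, h⟩ m hm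
    exact ⟨i, h.trans ⟨m, hm, rfl⟩⟩
  blk := by
    rintro _ ⟨i, m, hm, rfl⟩
    exact Pr.isBlk_conj (pb i).blk m
  triv := by
    rintro Y₁ ⟨i, h1⟩ Y₂ ⟨j, h2⟩ hne y hy v hv
    rcases d i j with h | h
    · obtain ⟨m, hm, rfl⟩ := h1
      obtain ⟨k, hk, rfl⟩ := h.trans h2
      have p := pb i
      obtain ⟨y, hy, rfl⟩ := hy
      rw [cm_conj] at hv
      by_cases he : (m⁻¹ * k) • cm W (Y i) = cm W (Y i)
      · have h3 := eq_of_cm faith two red p (mul_mem (inv_mem hm) hk) he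
        have h4 := congrArg (Subgroup.map (MulAut.conj m).toMonoidHom) h3
        rw [map_conj_map, mul_inv_cancel_left] at h4
        exact absurd h4.symm hne
      · have h3 := p.cen _ (mul_mem (inv_mem hm) hk) he y hy (m⁻¹ • v) (by
          rw [mul_smul, mem_smul', inv_inv, smul_inv_smul]
          exact hv)
        change (m * y * m⁻¹) • v = v
        rw [mul_smul, mul_smul, h3, smul_inv_smul]
    · have h3 := ((h.left h1).symm.left h2).symm
      exact (h3 1 (one_mem _)).1 y hy v (by rwa [one_smul])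

theorem gas_of {𝒴 : Set (Subgroup Γ)} [Finite Γ] (f : Fam W M 𝒴)
    (d : ∀ Y ∈ 𝒴, ∀ w : W, ∃ a ∈ cm W Y, ∃ c : W, (∀ y ∈ Y, y • c = c) ∧ w = a + c) (w : W) :
    ∃ a ∈ AddSubgroup.closure {v : W | ∃ Y ∈ 𝒴, v ∈ cm W Y}, ∃ c : W, (∀ r ∈ RR 𝒴, r • c = c) ∧ w = a + c := by
  have key : ∀ T : Set (Subgroup Γ), T ⊆ 𝒴 → ∃ a ∈ AddSubgroup.closure {v : W | ∃ Y ∈ 𝒴, v ∈ cm W Y},
      ∃ c : W, (∀ Y ∈ T, ∀ y ∈ Y, y • c = c) ∧ w = a + c := by
    intro T
    refine Set.Finite.induction_on (motive := fun T _ => T ⊆ 𝒴 → ∃ a ∈ AddSubgroup.closure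
      {v : W | ∃ Y ∈ 𝒴, v ∈ cm W Y}, ∃ c : W, (∀ Y ∈ T, ∀ y ∈ Y, y • c = c) ∧ w = a + c) T (Set.toFinite T) ?_ ?_
    · intro _
      exact ⟨0, zero_mem _, w, fun Y hY => absurd hY (Set.notMem_empty Y), by rw [zero_add]⟩
    · intro Y T hYT _ ih hsub
      obtain ⟨a, ha, c, hc, e⟩ := ih ((Set.subset_insert _ _).trans hsub)
      have hY : Y ∈ 𝒴 := hsub (Set.mem_insert _ _)
      obtain ⟨a', ha', c', hc', e'⟩ := d Y hY c
      refine ⟨a + a', add_mem ha (AddSubgroup.subset_closure ⟨Y, hY, ha'⟩), c', ?_, by rw [e, e', add_assoc]⟩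
      intro Y₁ hY₁ y hy
      rcases Set.mem_insert_iff.1 hY₁ with rfl | h1
      · exact hc' y hy
      · have h2 : y • a' = a' := f.triv Y₁ (hsub hY₁) Y hY (fun h => hYT (h ▸ h1)) y hy a' ha'
        have h3 := hc Y₁ h1 y hy
        rw [e', smul_add, h2] at h3
        exact add_left_cancel h3
  obtain ⟨a, ha, c, hc, e⟩ := key 𝒴 le_rfl
  refine ⟨a, ha, c, fun r hr => ?_, e⟩
  have h1 : RR 𝒴 ≤ MulAction.stabilizer Γ c := sSup_le fun Y hY y hy => hc Y hY y hy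
  exact h1 hr

end fam

/-! ### level of `G` -/

section group

variable {G : Type u} [Group G]

/-- `Blk0` of the panel with flat `F` in some `U ≥ V`, for `M₀`. -/
def BU (V M₀ F U : Subgroup G) : Prop :=
  V ≤ U ∧ ∃ (H : Subgroup G) (hH : H ≤ normalizer (U : Set G)) (hU : U ≤ centralizer (U : Set G))
    (hst : ∀ m ∈ im hH M₀, ∀ v ∈ ad hU V, m • v ∈ ad hU V), M₀ ≤ H ∧
    ∃ (Y Q BB : Subgroup (XX hH)) (Lw C : AddSubgroup (MU hU)) (x : XX hH) (S' : Subgroup (XX hH)),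
      Blk0 Y Q BB (ad hU V) (ad hU F) Lw C x (im hH M₀) (KV (im hH M₀) (ad hU V) hst) S'

/-- `{m ∈ M₀ | [U, m] ≤ V}` -/
def KC (V M₀ U : Subgroup G) : Subgroup G := closure {m | m ∈ M₀ ∧ ∀ u ∈ U, m * u * m⁻¹ * u⁻¹ ∈ V}

theorem KC_anti {V M₀ U U' : Subgroup G} (hUU : U ≤ U') : KC V M₀ U' ≤ KC V M₀ U :=
  closure_mono fun _ hm => ⟨hm.1, fun u hu => hm.2 u (hUU hu)⟩

variable {V N M₀ : Subgroup G} (hN : N ≤ normalizer (V : Set G)) (hV : V ≤ centralizer (V : Set G))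

theorem trG_KV {U H : Subgroup G} (hH : H ≤ normalizer (U : Set G)) (hU : U ≤ centralizer (U : Set G))
    (hst : ∀ m ∈ im hH M₀, ∀ v ∈ ad hU V, m • v ∈ ad hU V) (hMH : M₀ ≤ H) :
    trG hH hN M₀ (KV (im hH M₀) (ad hU V) hst) = im hN (KC V M₀ U) := by
  unfold trG KC
  congr 1
  have e : {m : G | m ∈ M₀ ∧ ∀ u ∈ U, m * u * m⁻¹ * u⁻¹ ∈ V} =
      (M₀ ⊓ pre hH (KV (im hH M₀) (ad hU V) hst) : Subgroup G) := by
    ext m
    constructor
    · rintro ⟨hm, hm'⟩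
      refine ⟨hm, (mem_pre hH).2 ⟨hMH hm, pr_mem_im hH hm (hMH hm), fun u => ?_⟩⟩
      rw [Ten.br_def, mem_ad, val_sub, val_smul]
      exact hm' _ (val_mem u)
    · rintro ⟨hm, hm'⟩
      obtain ⟨hmH, hmK⟩ := (mem_pre hH).1 hm'
      refine ⟨hm, fun u hu => ?_⟩
      have h1 := hmK.2 (Bridge.mk hU hu)
      rwa [Ten.br_def, mem_ad, val_sub, val_smul, val_mk] at h1
  rw [e, closure_eq]

variable (M₀) in
/-- The block `Y` on `V` of the panel with flat `F`, seen in `U`. -/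
structure PU (F U : Subgroup G) (Y : Subgroup (XX hN)) : Prop where
  pb : PB (MU hV) (im hN M₀) (ad hV F) Y (im hN (KC V M₀ U))
  dec : ∀ w : MU hV, ∃ a ∈ cm (MU hV) Y, ∃ c : MU hV, (∀ y ∈ Y, y • c = c) ∧ w = a + c

variable {hN hV} [Finite G]

theorem BU.exists_pu (hMN : M₀ ≤ N) (nff : NotFF V) {F U : Subgroup G} (b : BU V M₀ F U) :
    ∃ Y, PU M₀ hN hV F U Y := by
  obtain ⟨hVU, H, hH, hU, hst, hMH, Y, Q, BB, Lw, C, x, S', blk⟩ := b
  have h1 := pb_of_blk0 (hN := hN) (hV := hV) hVU hMH hMN nff blk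
  rw [trG_KV hN hH hU hst hMH] at h1
  exact ⟨_, h1, dec_of_blk0 hVU hMH hMN blk⟩

omit [Finite G] in
theorem two_MU (hsq : ∀ v ∈ V, v ^ 2 = 1) (w : MU hV) : w + w = 0 :=
  val_inj (by rw [val_add, val_zero, ← pow_two]; exact hsq _ (val_mem w))

variable (hsq : ∀ v ∈ V, v ^ 2 = 1) (red : Red (im hN M₀) (⊤ : AddSubgroup (MU hV)))
include hsq red

theorem PU.dich_le {F F' U U' : Subgroup G} {Y Y' : Subgroup (XX hN)} (h : PU M₀ hN hV F U Y)
    (h' : PU M₀ hN hV F' U' Y') (hUU : U' ≤ U) :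
    Cj (im hN M₀) Y Y' ∨ Mt (MU hV) (im hN M₀) Y Y' :=
  pair (faith hN) (two_MU hsq) red h.pb h'.pb (im_mono hN (KC_anti hUU))

/-- the blocks of one panel are conjugate -/
theorem PU.cj {F U U' : Subgroup G} {Y Y' : Subgroup (XX hN)} (h : PU M₀ hN hV F U Y)
    (h' : PU M₀ hN hV F U' Y') (hUU : U' ≤ U) (hF : F ≤ V) (hne : F ≠ V) : Cj (im hN M₀) Y Y' := by
  refine cj_of_flat ?_ h.pb.flat h'.pb.flat h'.dec (h.dich_le hsq red h' hUU)
  obtain ⟨v, hv, hv'⟩ := SetLike.exists_of_lt (lt_of_le_of_ne hF hne)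
  exact ⟨Bridge.mk hV hv, hv'⟩

/-- two panels -/
theorem dich_two (hMN : M₀ ≤ N) (nff : NotFF V) {F F' U U' U₁ : Subgroup G} {Y Y' : Subgroup (XX hN)}
    (h : PU M₀ hN hV F U Y) (h' : PU M₀ hN hV F' U' Y') (hF : F ≤ V) (hne : F ≠ V) (hF' : F' ≤ V) (hne' : F' ≠ V)
    (hU : U ≤ U₁) (hU' : U' ≤ U₁) (b : BU V M₀ F U₁ ∨ BU V M₀ F' U₁) :
    Cj (im hN M₀) Y Y' ∨ Mt (MU hV) (im hN M₀) Y Y' := by
  rcases b with b | b
  · obtain ⟨Y₀, h0⟩ := b.exists_pu (hN := hN) (hV := hV) hMN nff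
    exact dich (h0.cj hsq red h hU hF hne) (h0.dich_le hsq red h' hU')
  · obtain ⟨Y₀, h0⟩ := b.exists_pu (hN := hN) (hV := hV) hMN nff
    rcases dich (h0.cj hsq red h' hU' hF' hne') (h0.dich_le hsq red h hU) with h2 | h2
    · exact Or.inl h2.symm
    · exact Or.inr h2.symm

/-- **The family.** -/
theorem exists_fam (hMN : M₀ ≤ N) (nff : NotFF V) {ι : Type*} (F U : ι → Subgroup G) (hF : ∀ p, F p ≤ V)
    (hne : ∀ p, F p ≠ V) (own : ∀ p, BU V M₀ (F p) (U p))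
    (pr : ∀ p q, ∃ U', U p ≤ U' ∧ U q ≤ U' ∧ (BU V M₀ (F p) U' ∨ BU V M₀ (F q) U')) :
    ∃ 𝒴 : Set (Subgroup (XX hN)), Fam (MU hV) (im hN M₀) 𝒴 ∧
      (∀ w : MU hV, ∃ a ∈ AddSubgroup.closure {v : MU hV | ∃ Y ∈ 𝒴, v ∈ cm (MU hV) Y}, ∃ c : MU hV,
        (∀ r ∈ RR 𝒴, r • c = c) ∧ w = a + c) ∧
      ∀ p, ∃ Y ∈ 𝒴, ∃ Q ≤ Y, fx (MU hV) Q = ad hV (F p) := by
  choose Y hY using fun p => (own p).exists_pu (hN := hN) (hV := hV) hMN nff
  have d : ∀ p q, Cj (im hN M₀) (Y p) (Y q) ∨ Mt (MU hV) (im hN M₀) (Y p) (Y q) := by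
    intro p q
    obtain ⟨U', h1, h2, h3⟩ := pr p q
    exact dich_two hsq red hMN nff (hY p) (hY q) (hF p) (hne p) (hF q) (hne q) h1 h2 h3
  have hf : Fam (MU hV) (im hN M₀) (orb (im hN M₀) Y) :=
    fam_of (faith hN) (two_MU hsq) red (fun p => (hY p).pb) d
  refine ⟨orb (im hN M₀) Y, hf, gas_of hf ?_, fun p => ⟨Y p, ⟨p, Cj.refl _ _⟩, (hY p).pb.flat⟩⟩
  rintro Y' ⟨p, h⟩
  exact h.dec (hY p).dec

end group

end Cfsg.Agent.Omega.NO3b.BasePt.FamG

end
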